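import Mathlib

/-!
# Element orders of direct products of `PSL_n(q)` (S2510, S2513): definitions and packages

Every `Pkg*` below is a closed proposition; each one is proved in its own file by one seat, and
`Main.lean` assembles them.
-/

set_option autoImplicit false

namespace Cfsg.Agent.Lib.Helper58.SpecProd

open Polynomial

universe u

/-- The order of the image of a Singer cycle in `PSL_n(q)`. -/
def sig (q n : ℕ) : ℕ := (q ^ n - 1) / ((q - 1) * Nat.gcd n (q - 1))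

/-! ## Abstract packages (any finite group) -/

/-- (A3) three factors absorb a prime `r`. -/
def PkgAbs3 : Prop :=
  ∀ {L : Type u} [Group L] [Finite L] (p r σ m : ℕ), p.Prime → r.Prime → r ≠ p →
    (∃ z : L, orderOf z = r) → (∃ g : L, orderOf g = σ) →
    (∀ x : L, ¬ r ∣ orderOf x →
      (∃ y : L, orderOf y = orderOf x * r) ∨ ∃ T : ℕ, orderOf x ∣ p ^ T * σ) →
    Set.range (orderOf : L × L × L × Multiplicative (Fin m → ZMod r) → ℕ) =
      Set.range (orderOf : L × L × L → ℕ)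

/-- (A2) two factors absorb a prime `r`. -/
def PkgAbs2 : Prop :=
  ∀ {L : Type u} [Group L] [Finite L] (p r σ m : ℕ), p.Prime → r.Prime → r ≠ p →
    (∃ g : L, orderOf g = σ) →
    (∀ x : L, ¬ r ∣ orderOf x →
      (∃ y : L, orderOf y = orderOf x * r) ∨ ∃ T : ℕ, orderOf x ∣ p ^ T * σ) →
    (∀ x : L, (∃ t : ℕ, orderOf x = p ^ t) → ∃ w : L, orderOf w = orderOf x * r) →
    Set.range (orderOf : L × L × Multiplicative (Fin m → ZMod r) → ℕ) =
      Set.range (orderOf : L × L → ℕ)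

/-- (P2) powers of a group whose odd prime-power element orders divide some `2 ^ d - 1`, `d ≤ n`,
and which has elements of all orders `2 ^ d - 1`, `d ≤ n`. -/
def PkgPow2Arith : Prop :=
  ∀ {L : Type u} [Group L] [Finite L] (n : ℕ), 2 ≤ n →
    (∀ (g : L) (s e : ℕ), s.Prime → s ≠ 2 → s ^ e ∣ orderOf g →
      ∃ d : ℕ, 1 ≤ d ∧ d ≤ n ∧ s ^ e ∣ 2 ^ d - 1) →
    (∀ d : ℕ, 1 ≤ d → d ≤ n → ∃ g : L, orderOf g = 2 ^ d - 1) →
    ∀ k : ℕ, (n + 3) / 2 ≤ k →
      Set.range (orderOf : (Fin k → L) → ℕ) = Set.range (orderOf : (Fin ((n + 3) / 2) → L) → ℕ)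

/-! ## `PSL_n(q)` packages -/

/-- (PA) a prime power `s ^ e`, `s` not the characteristic, dividing an element order of
`PSL_n(q)` divides `q ^ d - 1` for some `1 ≤ d ≤ n`. -/
def PkgPowA : Prop :=
  ∀ {F : Type u} [Field F] [Fintype F] (n : ℕ), 1 ≤ n →
    ∀ (g : Matrix.ProjectiveSpecialLinearGroup (Fin n) F) (s e : ℕ), s.Prime →
      ¬ s ∣ Fintype.card F → s ^ e ∣ orderOf g →
      ∃ d : ℕ, 1 ≤ d ∧ d ≤ n ∧ s ^ e ∣ Fintype.card F ^ d - 1

/-- (PB) `PSL_n(2)` has an element of order `2 ^ d - 1` for `1 ≤ d ≤ n`. -/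
def PkgPow2B : Prop :=
  ∀ {F : Type u} [Field F] [Fintype F], Fintype.card F = 2 → ∀ (n d : ℕ), 1 ≤ d → d ≤ n →
    ∃ g : Matrix.ProjectiveSpecialLinearGroup (Fin n) F, orderOf g = 2 ^ d - 1

/-- (S) the Singer cycle of `PSL_n(q)`. -/
def PkgSingerPSL : Prop :=
  ∀ {F : Type u} [Field F] [Fintype F] (n : ℕ), 2 ≤ n →
    ∃ g : Matrix.ProjectiveSpecialLinearGroup (Fin n) F, orderOf g = sig (Fintype.card F) n

/-- (Z) an element of order `r` of `PSL_n(q)`, `r ∣ q - 1`, `r ∤ n`. -/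
def PkgZ : Prop :=
  ∀ {F : Type u} [Field F] [Fintype F] (n r : ℕ), 2 ≤ n → r.Prime → r ∣ Fintype.card F - 1 →
    ¬ r ∣ n → ∃ z : Matrix.ProjectiveSpecialLinearGroup (Fin n) F, orderOf z = r

/-- (DEC) a matrix of `SL_n(q)` whose characteristic polynomial has two coprime factors
commutes with a non-central `z ∈ SL_n(q)` with `z ^ r = 1`. -/
def PkgDec : Prop :=
  ∀ {F : Type u} [Field F] [Fintype F] (n r : ℕ), r.Prime → r ∣ Fintype.card F - 1 → ¬ r ∣ n →
    ∀ (A : Matrix.SpecialLinearGroup (Fin n) F) (χ₁ χ₂ : F[X]),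
      (A : Matrix (Fin n) (Fin n) F).charpoly = χ₁ * χ₂ → IsCoprime χ₁ χ₂ →
      1 ≤ χ₁.natDegree → 1 ≤ χ₂.natDegree →
      ∃ z : Matrix.SpecialLinearGroup (Fin n) F, Commute A z ∧ z ^ r = 1 ∧
        z ∉ Subgroup.center (Matrix.SpecialLinearGroup (Fin n) F)

/-- (SOP) a monic non-constant polynomial splits into two coprime non-constant factors or is a
power of an irreducible polynomial. -/
def PkgSplitOrPow : Prop :=
  ∀ {F : Type u} [Field F] (χ : F[X]), χ.Monic → 1 ≤ χ.natDegree →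
    (∃ χ₁ χ₂ : F[X], χ = χ₁ * χ₂ ∧ IsCoprime χ₁ χ₂ ∧ 1 ≤ χ₁.natDegree ∧ 1 ≤ χ₂.natDegree) ∨
    (∃ (f : F[X]) (e : ℕ), Irreducible f ∧ f.Monic ∧ 1 ≤ e ∧ χ = f ^ e)

/-- (PRA) arithmetic of the primary case. -/
def PkgPrimArith : Prop :=
  ∀ (q d e m : ℕ), 2 ≤ q → 1 ≤ d → 1 ≤ e → m ∣ q ^ d - 1 → m ∣ (q ^ d - 1) / (q - 1) * e →
    m ∣ sig q (d * e) * (q - 1)

/-- (PRF) field theory of the primary case: if the `e`-th power of the norm of a root of `f` is
`1`, the `sig q (deg f * e)`-th power of the root lies in the ground field. -/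
def PkgPrimField : Prop :=
  ∀ {F : Type u} [Field F] [Fintype F] (f : F[X]) (e : ℕ), Irreducible f → f.Monic → 1 ≤ e →
    ((-1) ^ f.natDegree * f.coeff 0) ^ e = 1 →
    ∃ c : F, f ∣ X ^ sig (Fintype.card F) (f.natDegree * e) - C c

/-- (PRIM) a matrix of `SL_n(q)` whose characteristic polynomial is a power of an irreducible
polynomial has image of order dividing `p ^ T * sig q n` in `PSL_n(q)`. -/
def PkgPrim : Prop :=
  ∀ {F : Type u} [Field F] [Fintype F] (p a n : ℕ), p.Prime → Fintype.card F = p ^ a → 2 ≤ n →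
    ∀ (A : Matrix.SpecialLinearGroup (Fin n) F) (f : F[X]) (e : ℕ), Irreducible f → f.Monic →
      1 ≤ e → (A : Matrix (Fin n) (Fin n) F).charpoly = f ^ e →
      ∃ T : ℕ, (QuotientGroup.mk A : Matrix.ProjectiveSpecialLinearGroup (Fin n) F) ^
        (p ^ T * sig (Fintype.card F) n) = 1

/-- (DI) the dichotomy for `PSL_n(q)`. -/
def PkgDI : Prop :=
  ∀ {F : Type u} [Field F] [Fintype F] (p a n r : ℕ), p.Prime → Fintype.card F = p ^ a → 2 ≤ n →
    r.Prime → r ∣ Fintype.card F - 1 → ¬ r ∣ n →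
    ∀ x : Matrix.ProjectiveSpecialLinearGroup (Fin n) F, ¬ r ∣ orderOf x →
      (∃ y : Matrix.ProjectiveSpecialLinearGroup (Fin n) F, orderOf y = orderOf x * r) ∨
      ∃ T : ℕ, orderOf x ∣ p ^ T * sig (Fintype.card F) n

/-- (UB) `p`-elements of `PSL_n(q)` have order at most the least power of `p` that is `≥ n`. -/
def PkgUBound : Prop :=
  ∀ {F : Type u} [Field F] [Fintype F] (p a n : ℕ), p.Prime → Fintype.card F = p ^ a → 2 ≤ n →
    ∀ (x : Matrix.ProjectiveSpecialLinearGroup (Fin n) F) (t T₀ : ℕ), orderOf x = p ^ t →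
      n ≤ p ^ T₀ → t ≤ T₀

/-- (UE) if `n - 1` is not a power of `p`, some element of `PSL_n(q)` has order `p ^ T₀ * r`
with `n ≤ p ^ T₀`. -/
def PkgUEx : Prop :=
  ∀ {F : Type u} [Field F] [Fintype F] (p a n r : ℕ), p.Prime → Fintype.card F = p ^ a → 2 ≤ n →
    r.Prime → r ∣ Fintype.card F - 1 → ¬ r ∣ n → (¬ ∃ j : ℕ, n - 1 = p ^ j) →
    ∃ (T₀ : ℕ) (w : Matrix.ProjectiveSpecialLinearGroup (Fin n) F),
      n ≤ p ^ T₀ ∧ orderOf w = p ^ T₀ * r

/-- (U) if `n - 1` is not a power of `p`, every `p`-element order times `r` is an element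
order of `PSL_n(q)`. -/
def PkgU : Prop :=
  ∀ {F : Type u} [Field F] [Fintype F] (p a n r : ℕ), p.Prime → Fintype.card F = p ^ a → 2 ≤ n →
    r.Prime → r ∣ Fintype.card F - 1 → ¬ r ∣ n → (¬ ∃ j : ℕ, n - 1 = p ^ j) →
    ∀ x : Matrix.ProjectiveSpecialLinearGroup (Fin n) F, (∃ t : ℕ, orderOf x = p ^ t) →
      ∃ w : Matrix.ProjectiveSpecialLinearGroup (Fin n) F, orderOf w = orderOf x * r

end Cfsg.Agent.Lib.Helper58.SpecProd
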